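import Cfsg.Agent.Lib.PGroup.JordanPrime
import Cfsg.Agent.S0415
import Mathlib.GroupTheory.Perm.Cycle.Type

/-!
# Small supports in multiply transitive groups

Products of two transpositions, and the exclusion of degree nine.
-/

set_option autoImplicit false
set_option linter.unusedSectionVars false

open Equiv MulAction

namespace CfsgLib.TransBound

variable {α : Type*} [Fintype α] [DecidableEq α]

/-- A nontrivial product of two transpositions is a three-cycle or has disjoint factors. -/
theorem swap_swap_cases {a b c d : α} (hab : a ≠ b) (hcd : c ≠ d)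
    (h1 : swap a b * swap c d ≠ 1) :
    (∃ x y z, x ≠ y ∧ x ≠ z ∧ y ≠ z ∧ swap a b * swap c d = swap x y * swap x z) ∨
      (a ≠ c ∧ a ≠ d ∧ b ≠ c ∧ b ≠ d) := by
  by_cases hac : a = c
  · subst hac
    refine Or.inl ⟨a, b, d, hab, hcd, fun e => h1 ?_, rfl⟩
    rw [e, swap_mul_self]
  by_cases had : a = d
  · subst had
    refine Or.inl ⟨a, b, c, hab, hcd.symm, fun e => h1 ?_, by rw [swap_comm c a]⟩
    rw [e, swap_comm c a, swap_mul_self]
  by_cases hbc : b = c
  · subst hbc
    exact Or.inl ⟨b, a, d, hab.symm, hcd, had, by rw [swap_comm a b]⟩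
  by_cases hbd : b = d
  · subst hbd
    exact Or.inl ⟨b, a, c, hab.symm, hcd.symm, hac, by rw [swap_comm a b, swap_comm c b]⟩
  exact Or.inr ⟨hac, had, hbc, hbd⟩

/-- The commutator of a permutation with a transposition. -/
theorem conj_swap_mul {β : Type*} [DecidableEq β] (σ : Perm β) (a c : β) :
    σ * swap a c * σ⁻¹ * (swap a c)⁻¹ = swap (σ a) (σ c) * swap a c := by
  rw [swap_apply_apply, swap_inv]

theorem exists_swap_ne_one {β : Type*} [Fintype β] [DecidableEq β] (h3 : 3 ≤ Fintype.card β)
    {σ : Perm β} (hσ : σ ≠ 1) :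
    ∃ a c, a ≠ c ∧ swap (σ a) (σ c) * swap a c ≠ 1 := by
  obtain ⟨a, ha⟩ : ∃ a, σ a ≠ a := by
    by_contra hcon
    push Not at hcon
    exact hσ (Perm.ext hcon)
  obtain ⟨c, hc⟩ : ∃ c, c ∉ ({a, σ a} : Finset β) := by
    by_contra hcon
    push Not at hcon
    have := (Finset.card_le_card (fun c (_ : c ∈ (Finset.univ : Finset β)) => hcon c)).trans
      Finset.card_le_two
    rw [Finset.card_univ] at this
    omega
  simp only [Finset.mem_insert, Finset.mem_singleton, not_or] at hc
  refine ⟨a, c, Ne.symm hc.1, fun e => ?_⟩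
  have h := congrArg (fun f : Perm β => f c) e
  simp only [Perm.mul_apply, Perm.one_apply, swap_apply_right] at h
  rw [swap_apply_of_ne_of_ne (Ne.symm ha) (fun e' => ?_)] at h
  · exact hc.1 h.symm
  · exact hc.2 (h.symm.trans ((congrArg _ e').trans (swap_apply_right _ _)))

theorem eq_one_of_commute_swap {β : Type*} [Fintype β] [DecidableEq β] (h3 : 3 ≤ Fintype.card β)
    {σ : Perm β} (h : ∀ a c, σ * swap a c = swap a c * σ) : σ = 1 := by
  by_contra hσ
  obtain ⟨a, c, -, hne⟩ := exists_swap_ne_one h3 hσ
  rw [← conj_swap_mul, h a c, mul_inv_cancel_right, mul_inv_cancel] at hne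
  exact hne rfl

/-- Abelian normal subgroups of symmetric groups. -/
theorem abelian_normal_eq_bot {β : Type*} [Fintype β] [DecidableEq β] {A : Subgroup (Perm β)}
    (hA : A.Normal) (hcomm : ∀ x ∈ A, ∀ y ∈ A, x * y = y * x) (h4 : 4 ≤ Fintype.card β)
    (h5 : 5 ≤ Fintype.card β ∨ ∃ q : ℕ, Odd q ∧ ∀ x ∈ A, x ^ q = 1) : A = ⊥ := by
  rw [Subgroup.eq_bot_iff_forall]
  intro σ hσ
  by_contra h1
  obtain ⟨a, c, hac, hne⟩ := exists_swap_ne_one (by omega) h1
  have hs : swap (σ a) (σ c) * swap a c ∈ A := by
    rw [← conj_swap_mul, mul_assoc σ, mul_assoc σ]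
    exact mul_mem hσ (hA.conj_mem _ (inv_mem hσ) _)
  have other : ∀ S : Finset β, S.card < Fintype.card β → ∃ e, e ∉ S := fun S hS => by
    by_contra hcon
    push Not at hcon
    rw [show S = Finset.univ from Finset.eq_univ_of_forall hcon, Finset.card_univ] at hS
    exact lt_irrefl _ hS
  rcases swap_swap_cases (σ.injective.ne hac) hac hne with
    ⟨x, y, z, hxy, hxz, hyz, e⟩ | ⟨n1, n2, n3, n4⟩
  · rw [e] at hs
    obtain ⟨w, hw⟩ := other {x, y, z} (lt_of_le_of_lt Finset.card_le_three (by omega))
    simp only [Finset.mem_insert, Finset.mem_singleton, not_or] at hw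
    have ht := hA.conj_mem _ hs (swap z w)
    have := congrArg (fun f : Perm β => f x) (hcomm _ hs _ ht)
    simp only [Perm.mul_apply, swap_inv] at this
    simp [swap_apply_of_ne_of_ne, hxy, hxz, hyz, hxy.symm, hxz.symm, hyz.symm, hw.1, hw.2.1, hw.2.2,
      Ne.symm hw.1, Ne.symm hw.2.1, Ne.symm hw.2.2] at this
  · rcases h5 with h5 | ⟨q, hq, hpow⟩
    · obtain ⟨w, hw⟩ := other {σ a, σ c, a, c} (lt_of_le_of_lt Finset.card_le_four (by omega))
      simp only [Finset.mem_insert, Finset.mem_singleton, not_or] at hw
      have ht := hA.conj_mem _ hs (swap c w)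
      have := congrArg (fun f : Perm β => f a) (hcomm _ hs _ ht)
      simp only [Perm.mul_apply, swap_inv] at this
      simp [swap_apply_of_ne_of_ne, hac, hac.symm, n1, n2, n3, n4, n1.symm, n2.symm, n3.symm,
        n4.symm, hw.1, hw.2.1, hw.2.2.1, hw.2.2.2, Ne.symm hw.1, Ne.symm hw.2.1, Ne.symm hw.2.2.1,
        Ne.symm hw.2.2.2, σ.injective.ne hac, (σ.injective.ne hac).symm] at this
    · obtain ⟨m, rfl⟩ := hq
      have hinv : (swap (σ a) (σ c) * swap a c) ^ 2 = 1 := by
        have e : swap (σ a) (σ c) * swap a c = swap a c * swap (σ a) (σ c) := by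
          have := swap_apply_apply (swap (σ a) (σ c)) a c
          rw [swap_apply_of_ne_of_ne (Ne.symm n1) (Ne.symm n3),
            swap_apply_of_ne_of_ne (Ne.symm n2) (Ne.symm n4), swap_inv] at this
          conv_rhs => rw [this]
          rw [mul_assoc, swap_mul_self, mul_one]
        rw [pow_two]
        nth_rw 2 [e]
        rw [mul_assoc, ← mul_assoc (swap a c), swap_mul_self, one_mul, swap_mul_self]
      have := hpow _ hs
      rw [pow_succ, pow_mul, hinv, one_pow, one_mul] at this
      exact hne this

variable {G : Subgroup (Perm α)}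

/-- In an `m`-transitive group any injection of a set of at most `m` points extends. -/
theorem exists_map {m : ℕ} (hG : IsMultiplyPretransitive G α m) (hm : m ≤ Fintype.card α)
    (S : Finset α) (hS : S.card ≤ m) (f : α → α) (hf : Set.InjOn f S) :
    ∃ g : G, ∀ x ∈ S, (g : Perm α) x = f x := by
  haveI := hG
  haveI : IsMultiplyPretransitive G α S.card :=
    isMultiplyPretransitive_of_le (n := m) hS (by rwa [Nat.card_eq_fintype_card])
  let e : Fin S.card ↪ α := S.equivFin.symm.toEmbedding.trans (Function.Embedding.subtype _)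
  let e' : Fin S.card ↪ α := ⟨fun i => f (e i), fun i j h =>
    e.injective (hf (S.equivFin.symm i).2 (S.equivFin.symm j).2 h)⟩
  obtain ⟨g, hg⟩ := exists_smul_eq G e e'
  refine ⟨g, fun x hx => ?_⟩
  have := congrArg (fun t : Fin S.card ↪ α => t (S.equivFin ⟨x, hx⟩)) hg
  simpa [e, e', Subgroup.smul_def] using this

theorem isPreprimitive_of_four (h4 : IsMultiplyPretransitive G α 4) (hn : 4 ≤ Fintype.card α) :
    IsPreprimitive G α := by
  haveI := h4
  exact isPreprimitive_of_is_two_pretransitive
    (isMultiplyPretransitive_of_le (n := 4) (by omega) (by rwa [Nat.card_eq_fintype_card]))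

/-- A product of two transpositions in a four-transitive group. -/
theorem alt_of_swap_swap (h4 : IsMultiplyPretransitive G α 4) (hn : 5 ≤ Fintype.card α)
    {a b c d : α} (hab : a ≠ b) (hcd : c ≠ d) (h1 : swap a b * swap c d ≠ 1)
    (hmem : swap a b * swap c d ∈ G) : alternatingGroup α ≤ G := by
  have hprim := isPreprimitive_of_four h4 (by omega)
  rcases swap_swap_cases hab hcd h1 with ⟨x, y, z, hxy, hxz, hyz, e⟩ | ⟨n1, n2, n3, n4⟩
  · exact Perm.alternatingGroup_le_of_isPreprimitive_of_isThreeCycle_mem hprim
      (Perm.isThreeCycle_swap_mul_swap_same hxy hxz hyz) (e ▸ hmem)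
  obtain ⟨w, hw⟩ : ∃ w, w ∉ ({a, b, c, d} : Finset α) := by
    by_contra hcon
    push Not at hcon
    have := (Finset.card_le_card (fun t (_ : t ∈ (Finset.univ : Finset α)) => hcon t)).trans
      Finset.card_le_four
    rw [Finset.card_univ] at this
    omega
  simp only [Finset.mem_insert, Finset.mem_singleton, not_or] at hw
  obtain ⟨g, hg⟩ := exists_map h4 (by omega) {a, b, c, d} Finset.card_le_four
    (fun t => if t = d then w else t) (by
      intro s hs t ht hst
      simp only [Finset.coe_insert, Finset.coe_singleton, Set.mem_insert_iff,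
        Set.mem_singleton_iff] at hs ht
      simp only at hst
      split_ifs at hst with e1 e2 e2
      · rw [e1, e2]
      · rcases ht with rfl | rfl | rfl | rfl
        exacts [absurd hst hw.1, absurd hst hw.2.1, absurd hst hw.2.2.1, absurd rfl e2]
      · rcases hs with rfl | rfl | rfl | rfl
        exacts [absurd hst.symm hw.1, absurd hst.symm hw.2.1, absurd hst.symm hw.2.2.1, absurd rfl e1]
      · exact hst)
  have hga := hg a (by simp)
  have hgb := hg b (by simp)
  have hgc := hg c (by simp)
  have hgd := hg d (by simp)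
  rw [if_neg n2] at hga
  rw [if_neg n4] at hgb
  rw [if_neg hcd] at hgc
  rw [if_pos rfl] at hgd
  have e1 : (g : Perm α) * (swap a b * swap c d) * (g : Perm α)⁻¹ = swap a b * swap c w := by
    have h1 := swap_apply_apply (g : Perm α) a b
    have h2 := swap_apply_apply (g : Perm α) c d
    rw [hga, hgb] at h1
    rw [hgc, hgd] at h2
    calc (g : Perm α) * (swap a b * swap c d) * (g : Perm α)⁻¹ =
          ((g : Perm α) * swap a b * (g : Perm α)⁻¹) * ((g : Perm α) * swap c d * (g : Perm α)⁻¹) := by
          group
      _ = _ := by rw [← h1, ← h2]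
  have e2 : swap a b * swap c d = swap c d * swap a b := by
    have := swap_apply_apply (swap a b) c d
    rw [swap_apply_of_ne_of_ne (Ne.symm n1) (Ne.symm n3),
      swap_apply_of_ne_of_ne (Ne.symm n2) (Ne.symm n4), swap_inv] at this
    conv_rhs => rw [this]
    rw [mul_assoc, swap_mul_self, mul_one]
  have hmem' := G.mul_mem hmem (G.mul_mem (G.mul_mem g.2 hmem) (G.inv_mem g.2))
  rw [e1, e2, mul_assoc, ← mul_assoc (swap a b), swap_mul_self, one_mul] at hmem'
  exact Perm.alternatingGroup_le_of_isPreprimitive_of_isThreeCycle_mem hprim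
    (Perm.isThreeCycle_swap_mul_swap_same hcd (Ne.symm hw.2.2.1) (Ne.symm hw.2.2.2)) hmem'

/-- An element of prime order with small support. -/
theorem alt_of_prime_support (h4 : IsMultiplyPretransitive G α 4) {p : ℕ} (hp : p.Prime)
    (hn : p + 3 ≤ Fintype.card α) (h4n : 4 ≤ Fintype.card α) {g : Perm α} (hg : g ∈ G)
    (hord : orderOf g = p) (hs : g.support.card < 2 * p) : alternatingGroup α ≤ G := by
  obtain ⟨m, hm⟩ := Perm.cycleType_prime_order (hord.symm ▸ hp)
  have hsum := g.sum_cycleType
  rw [hm, Multiset.sum_replicate, hord, smul_eq_mul] at hsum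
  have hm0 : m = 0 := by
    by_contra hne
    have : 2 * p ≤ (m + 1) * p := Nat.mul_le_mul_right _ (by omega)
    omega
  subst hm0
  exact PGroup.alternatingGroup_le_of_prime_cycle (isPreprimitive_of_four h4 h4n) hg
    (Perm.card_cycleType_eq_one.1 (by rw [hm]; simp)) hp (by omega)
    (by rw [Nat.card_eq_fintype_card]; omega)

/-- There is no four-transitive group of degree nine but the alternating and symmetric groups. -/
theorem alt_of_nine (h4 : IsMultiplyPretransitive G α 4) (hn : Fintype.card α = 9) :
    alternatingGroup α ≤ G := by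
  by_contra hA
  haveI := h4
  have hsharp : ∀ x : Fin 4 ↪ α, MulAction.stabilizer G x = ⊥ := by
    intro x
    rw [Subgroup.eq_bot_iff_forall]
    intro g hg
    by_contra hg1
    set S : Finset α := Finset.univ.map x with hSdef
    have hS : S.card = 4 := by simp [hSdef]
    have hne : orderOf g ≠ 1 := fun e => hg1 (orderOf_eq_one_iff.1 e)
    obtain ⟨q, hq, hdvd⟩ := Nat.exists_prime_and_dvd hne
    set h := g ^ (orderOf g / q) with hh
    have hord : orderOf (h : Perm α) = q := by
      rw [Subgroup.orderOf_coe, hh,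
        orderOf_pow_of_dvd (Nat.div_pos (Nat.le_of_dvd (orderOf_pos g) hdvd) hq.pos).ne'
          (Nat.div_dvd_of_dvd hdvd),
        Nat.div_div_self hdvd (orderOf_pos g).ne']
    have hfix : ∀ i, (h : Perm α) (x i) = x i := by
      intro i
      have h1 : h ∈ MulAction.stabilizer G x := Subgroup.pow_mem _ hg _
      exact congrArg (fun t : Fin 4 ↪ α => t i) h1
    have hsupp : (h : Perm α).support ⊆ Sᶜ := by
      intro y hy
      rw [Finset.mem_compl, hSdef, Finset.mem_map]
      rintro ⟨i, -, rfl⟩
      exact Perm.mem_support.1 hy (hfix i)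
    have hcard : (h : Perm α).support.card ≤ 5 := by
      have := Finset.card_le_card hsupp
      rw [Finset.card_compl, hS, hn] at this
      exact this
    obtain ⟨m, hm⟩ := Perm.cycleType_prime_order (hord.symm ▸ hq)
    have hsum := (h : Perm α).sum_cycleType
    rw [hm, Multiset.sum_replicate, hord, smul_eq_mul] at hsum
    rcases Nat.eq_zero_or_pos m with rfl | hm0
    · exact hA (alt_of_prime_support h4 hq (by omega) (by omega) h.2 hord (by
        have := hq.two_le; omega))
    -- a product of two transpositions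
    have hq2 : q = 2 := by
      have := hq.two_le
      have : 2 * q ≤ (m + 1) * q := Nat.mul_le_mul_right _ (by omega)
      omega
    subst hq2
    have hm1 : m = 1 := by omega
    subst hm1
    have hsc : (h : Perm α).support.card = 4 := by omega
    have hinv : ∀ y, (h : Perm α) ((h : Perm α) y) = y := fun y => by
      have := congrArg (fun f : Perm α => f y) (pow_orderOf_eq_one (h : Perm α))
      rw [hord, pow_two] at this
      exact this
    obtain ⟨d, hd⟩ := Finset.card_pos.1 (show 0 < (h : Perm α).support.card by omega)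
    obtain ⟨f, hf, hf'⟩ : ∃ f ∈ (h : Perm α).support, f ∉ ({d, (h : Perm α) d} : Finset α) := by
      by_contra hcon
      push Not at hcon
      have := (Finset.card_le_card hcon).trans Finset.card_le_two
      omega
    simp only [Finset.mem_insert, Finset.mem_singleton, not_or] at hf'
    rw [Perm.mem_support] at hd hf
    have hsub : ({d, (h : Perm α) d, f, (h : Perm α) f} : Finset α) = (h : Perm α).support := by
      refine Finset.eq_of_subset_of_card_le ?_ ?_
      · intro y hy
        simp only [Finset.mem_insert, Finset.mem_singleton] at hy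
        rw [Perm.mem_support]
        rcases hy with rfl | rfl | rfl | rfl
        · exact hd
        · exact fun e => hd ((h : Perm α).injective e)
        · exact hf
        · exact fun e => hf ((h : Perm α).injective e)
      · rw [hsc, Finset.card_insert_of_notMem, Finset.card_insert_of_notMem,
          Finset.card_insert_of_notMem, Finset.card_singleton]
        · simpa using Ne.symm hf
        · simp only [Finset.mem_insert, Finset.mem_singleton, not_or]
          exact ⟨Ne.symm hf'.2, fun e => hf'.1 ((h : Perm α).injective e).symm⟩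
        · simp only [Finset.mem_insert, Finset.mem_singleton, not_or]
          exact ⟨Ne.symm hd, Ne.symm hf'.1, fun e => hf'.2 (by rw [e, hinv])⟩
    have e : (h : Perm α) = swap d ((h : Perm α) d) * swap f ((h : Perm α) f) := by
      ext y
      rw [Perm.mul_apply]
      have n1 : d ≠ (h : Perm α) f := fun e => hf'.2 (by rw [e, hinv])
      have n2 : (h : Perm α) d ≠ (h : Perm α) f := fun e => hf'.1 ((h : Perm α).injective e).symm
      by_cases hy : y ∈ (h : Perm α).support
      · rw [← hsub] at hy
        simp only [Finset.mem_insert, Finset.mem_singleton] at hy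
        rcases hy with rfl | rfl | rfl | rfl
        · rw [swap_apply_of_ne_of_ne (Ne.symm hf'.1) n1, swap_apply_left]
        · rw [swap_apply_of_ne_of_ne (Ne.symm hf'.2) n2, swap_apply_right, hinv]
        · rw [swap_apply_left, swap_apply_of_ne_of_ne (Ne.symm n1) (Ne.symm n2)]
        · rw [swap_apply_right, swap_apply_of_ne_of_ne hf'.1 hf'.2, hinv]
      · have hy' := Perm.notMem_support.1 hy
        rw [← hsub] at hy
        simp only [Finset.mem_insert, Finset.mem_singleton, not_or] at hy
        rw [hy', swap_apply_of_ne_of_ne hy.2.2.1 hy.2.2.2, swap_apply_of_ne_of_ne hy.1 hy.2.1]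
    refine hA (alt_of_swap_swap h4 (by omega) (Ne.symm hd) (Ne.symm hf) ?_ (e ▸ h.2))
    rw [← e]
    intro e1
    rw [e1, orderOf_one] at hord
    omega
  have := CfsgLib.Spor.SharplyCount.degree_four hsharp (by omega)
  omega

end CfsgLib.TransBound
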