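import Cfsg.Agent.Lib.Perm.TransBound.Basic

/-!
# The transitivity bound

If `n = k p + r` with `p` prime, `k < p` and `k < r` then an `(r + 1)`-transitive group of degree `n`
contains the alternating group. The normalizer of a Sylow subgroup of the stabilizer of `r` points
induces the symmetric group on them, but can only permute `k` orbits.
-/

set_option autoImplicit false
set_option linter.unusedSectionVars false

open Equiv MulAction

namespace CfsgLib.TransBound

theorem perm_apply_inv {β : Type*} (f : Perm β) (x : β) : f (f⁻¹ x) = x := f.apply_symm_apply x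

theorem perm_inv_apply {β : Type*} (f : Perm β) (x : β) : f⁻¹ (f x) = x := f.symm_apply_apply x

variable {α : Type*} [Fintype α] [DecidableEq α] {G : Subgroup (Perm α)}

/-- A `p`-subgroup of `G` fixing exactly `R` and moving the other points in `k` orbits of size `p`,
whose normalizer induces the symmetric group on `R`. -/
structure Data (G : Subgroup (Perm α)) (p k r : ℕ) where
  R : Finset α
  P : Subgroup G
  prime : p.Prime
  cardR : R.card = r
  cardCompl : Rᶜ.card = k * p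
  isP : IsPGroup p P
  fix : ∀ z ∈ P, ∀ x ∈ R, (z : Perm α) x = x
  move : ∀ x, x ∉ R → ∃ z ∈ P, (z : Perm α) x ≠ x
  small : k < p
  lift : ∀ σ : Perm {x // x ∈ R}, ∃ n ∈ Subgroup.normalizer (P : Set G),
    ∀ x : {x // x ∈ R}, (n : Perm α) x = σ x

/-- Build the data. -/
theorem exists_data {k p r : ℕ} (hp : p.Prime) (hn : Fintype.card α = k * p + r) (hk : 1 ≤ k)
    (hpk : k < p) (hG : IsMultiplyPretransitive G α (r + 1)) : Nonempty (Data G p k r) := by
  classical
  haveI := Fact.mk hp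
  have hkp : 0 < k * p := Nat.mul_pos hk hp.pos
  obtain ⟨R, -, hR⟩ := Finset.exists_subset_card_eq (s := (Finset.univ : Finset α)) (n := r)
    (by rw [Finset.card_univ]; omega)
  have hRc : Rᶜ.card = k * p := by rw [Finset.card_compl, hR, hn]; omega
  set H : Subgroup G := fixingSubgroup G (R : Set α)
  have hH : ∀ g : G, g ∈ H ↔ ∀ x ∈ R, (g : Perm α) x = x := fun g => by
    rw [mem_fixingSubgroup_iff]
    rfl
  let S : Sylow p H := default
  set P : Subgroup G := (S : Subgroup H).map H.subtype with hPdef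
  have hPH : P ≤ H := Subgroup.map_subtype_le _
  have hfix : ∀ z ∈ P, ∀ x ∈ R, (z : Perm α) x = x := fun z hz => (hH z).1 (hPH hz)
  have hmove : ∀ x, x ∉ R → ∃ z ∈ P, (z : Perm α) x ≠ x := by
    intro x hx
    by_contra hcon
    push Not at hcon
    have horb : MulAction.orbit H x = ((Rᶜ : Finset α) : Set α) := by
      ext y
      simp only [Finset.coe_compl, Set.mem_compl_iff, Finset.mem_coe]
      constructor
      · rintro ⟨g, rfl⟩ hy
        have h1 : ((g : G) : Perm α) (((g : G) : Perm α) x) = ((g : G) : Perm α) x :=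
          (hH g).1 g.2 _ hy
        rw [((g : G) : Perm α).injective.eq_iff] at h1
        exact hx (h1 ▸ hy)
      · intro hy
        obtain ⟨g, hg⟩ := exists_map hG (by omega) (insert x R)
          (by rw [Finset.card_insert_of_notMem hx, hR]) (fun t => if t = x then y else t) (by
            intro a ha b hb hab
            simp only [Finset.coe_insert, Set.mem_insert_iff, Finset.mem_coe] at ha hb
            simp only at hab
            split_ifs at hab with e1 e2 e2
            · rw [e1, e2]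
            · exact absurd (hab ▸ hb.resolve_left e2) hy
            · exact absurd (hab.symm ▸ ha.resolve_left e1) hy
            · exact hab)
        refine ⟨⟨g, (hH g).2 fun t ht => ?_⟩, ?_⟩
        · rw [hg t (Finset.mem_insert_of_mem ht), if_neg (fun e : t = x => hx (e ▸ ht))]
        · show (g : Perm α) x = y
          rw [hg x (Finset.mem_insert_self _ _), if_pos rfl]
    have hidx : (stabilizer H x).index = k * p := by
      rw [MulAction.index_stabilizer, horb, Set.ncard_coe_finset, hRc]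
    have hle : (S : Subgroup H) ≤ stabilizer H x := fun z hz =>
      hcon z (Subgroup.mem_map_of_mem H.subtype hz)
    refine S.not_dvd_index (dvd_trans ?_ (Subgroup.index_dvd_of_le hle))
    rw [hidx]
    exact Dvd.intro_left k rfl
  refine ⟨⟨R, P, hp, hR, hRc, S.2.map _, hfix, hmove, hpk, fun σ => ?_⟩⟩
  -- Witt
  obtain ⟨g, hg⟩ := exists_map hG (by omega) R (by omega)
    (fun t => if h : t ∈ R then (σ ⟨t, h⟩ : α) else t) (by
      intro a ha b hb hab
      simp only [Finset.mem_coe] at ha hb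
      simp only [dif_pos ha, dif_pos hb] at hab
      exact congrArg Subtype.val (σ.injective (Subtype.ext hab)))
  have hg' : ∀ t : {x // x ∈ R}, (g : Perm α) t = σ t := fun t => by
    rw [hg t t.2, dif_pos t.2]
  have hinv : ∀ x ∈ R, ((g : Perm α)⁻¹) x ∈ R := by
    intro x hx
    rw [show ((g : Perm α)⁻¹) x = σ.symm ⟨x, hx⟩ from (g : Perm α).injective (by
      rw [perm_apply_inv, hg', Equiv.apply_symm_apply])]
    exact (σ.symm ⟨x, hx⟩).2
  set P' : Subgroup G := P.map (MulAut.conj g).toMonoidHom with hP'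
  have hP'H : P' ≤ H := by
    rintro _ ⟨z, hz, rfl⟩
    refine (hH _).2 fun x hx => ?_
    show (g : Perm α) ((z : Perm α) (((g : Perm α)⁻¹) x)) = x
    rw [hfix z hz _ (hinv x hx), perm_apply_inv]
  have hQ : IsPGroup p (P'.subgroupOf H) :=
    ((S.2.map H.subtype).map _).of_equiv (Subgroup.subgroupOfEquivOfLe hP'H).symm
  obtain ⟨Q, hQle⟩ := hQ.exists_le_sylow
  obtain ⟨h, hh⟩ := MulAction.exists_smul_eq H S Q
  have hcard : Nat.card (P'.subgroupOf H) = Nat.card (Q : Subgroup H) := by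
    rw [Nat.card_congr (Subgroup.subgroupOfEquivOfLe hP'H).toEquiv, hP',
      Subgroup.card_map_of_injective (MulAut.conj g).injective, hPdef,
      Subgroup.card_map_of_injective H.subtype_injective, Sylow.card_eq_multiplicity,
      Sylow.card_eq_multiplicity]
  have heq : P'.subgroupOf H = (Q : Subgroup H) := Subgroup.eq_of_le_of_card_ge hQle hcard.ge
  have hn' : P.map (MulAut.conj ((h : G)⁻¹ * g)).toMonoidHom = P := by
    have h1 : P' = P.map (MulAut.conj (h : G)).toMonoidHom := by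
      rw [← Subgroup.map_subgroupOf_eq_of_le hP'H, heq, ← hh, hPdef, Sylow.coe_subgroup_smul,
        Subgroup.map_map]
      show ((S : Subgroup H).map (MulAut.conj h).toMonoidHom).map H.subtype = _
      rw [Subgroup.map_map]
      rfl
    rw [hP'] at h1
    have h2 := congrArg (fun K : Subgroup G => K.map (MulAut.conj (h : G)⁻¹).toMonoidHom) h1
    simp only [Subgroup.map_map] at h2
    rw [show (MulAut.conj ((h : G)⁻¹ * g)).toMonoidHom =
        (MulAut.conj (h : G)⁻¹).toMonoidHom.comp (MulAut.conj g).toMonoidHom from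
      MonoidHom.ext fun z => by simp [mul_assoc]]
    rw [h2]
    convert Subgroup.map_id P using 2
    exact MonoidHom.ext fun z => by simp [mul_assoc]
  refine ⟨(h : G)⁻¹ * g, Subgroup.mem_normalizer_iff.2 fun z => ⟨fun hz => ?_, fun hz => ?_⟩, fun x => ?_⟩
  · rw [← hn']
    exact ⟨z, hz, rfl⟩
  · rw [← hn'] at hz
    obtain ⟨w, hw, e⟩ := hz
    rwa [← (MulAut.conj ((h : G)⁻¹ * g)).injective e]
  · show (((h : G)⁻¹ : G) : Perm α) ((g : Perm α) x) = σ x
    rw [hg']
    exact (hH _).1 (H.inv_mem h.2) _ (σ x).2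

namespace Data

variable {p k r : ℕ} (D : Data G p k r)

theorem notMem_apply {z : G} (hz : z ∈ D.P) {x : α} (hx : x ∉ D.R) : (z : Perm α) x ∉ D.R := fun h => by
  have h1 := D.fix z hz _ h
  rw [(z : Perm α).injective.eq_iff] at h1
  exact hx (h1 ▸ h)

/-- The orbit of a point. -/
noncomputable def orb (x : α) : Finset α := (MulAction.orbit D.P x).toFinite.toFinset

theorem mem_orb {x y : α} : y ∈ D.orb x ↔ ∃ z ∈ D.P, (z : Perm α) x = y := by
  rw [orb, Set.Finite.mem_toFinset]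
  exact ⟨fun ⟨z, hz⟩ => ⟨z, z.2, hz⟩, fun ⟨z, hz, e⟩ => ⟨⟨z, hz⟩, e⟩⟩

theorem self_mem_orb (x : α) : x ∈ D.orb x := D.mem_orb.2 ⟨1, one_mem _, rfl⟩

theorem card_orb {x : α} (hx : x ∉ D.R) : (D.orb x).card = p := by
  haveI := Fact.mk D.prime
  obtain ⟨z, hz, hne⟩ := D.move x hx
  have h2 : 1 < (D.orb x).card :=
    Finset.one_lt_card.2 ⟨_, D.self_mem_orb x, _, D.mem_orb.2 ⟨z, hz, rfl⟩, Ne.symm hne⟩
  obtain ⟨e, he⟩ := D.isP.card_orbit x
  have hc : (D.orb x).card = p ^ e := by
    rw [← he, orb, Nat.card_coe_set_eq, Set.ncard_eq_toFinset_card _ (Set.toFinite _)]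
  have hle : (D.orb x).card ≤ k * p := D.cardCompl ▸ Finset.card_le_card (fun y hy => by
    obtain ⟨w, hw, rfl⟩ := D.mem_orb.1 hy
    exact Finset.mem_compl.2 (D.notMem_apply hw hx))
  rw [hc] at h2 hle ⊢
  rcases e with - | - | e
  · simp at h2
  · rw [zero_add, pow_one]
  · exfalso
    have h3 : p * p ≤ p ^ (e + 1 + 1) := by
      rw [← pow_two]; exact Nat.pow_le_pow_right D.prime.pos (by omega)
    have := D.small
    nlinarith [D.prime.two_le]

theorem orb_eq {x y : α} (h : y ∈ D.orb x) : D.orb y = D.orb x := by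
  rw [orb, Set.Finite.mem_toFinset] at h
  simp only [orb, MulAction.orbit_eq_iff.2 h]

theorem stab_normal {x : α} (hx : x ∉ D.R) :
    (stabilizer D.P x).Normal ∧ (stabilizer D.P x).index = p := by
  haveI := Fact.mk D.prime
  have hidx : (stabilizer D.P x).index = p := by
    rw [MulAction.index_stabilizer, Set.ncard_eq_toFinset_card _ (Set.toFinite _)]
    exact D.card_orb hx
  obtain ⟨e, he⟩ := D.isP.exists_card_eq
  refine ⟨Subgroup.normal_of_index_eq_minFac_card ?_, hidx⟩
  rw [hidx, he, Nat.pow_minFac, D.prime.minFac_eq]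
  rintro rfl
  have hd := (stabilizer D.P x).index_dvd_card
  rw [hidx, he, pow_zero] at hd
  exact D.prime.one_lt.ne' (Nat.dvd_one.1 hd)

theorem pow_p {z : G} (hz : z ∈ D.P) : z ^ p = 1 := by
  refine Subtype.ext (Perm.ext fun x => ?_)
  by_cases hx : x ∈ D.R
  · exact D.fix _ (pow_mem hz p) x hx
  · obtain ⟨hN, hidx⟩ := D.stab_normal hx
    haveI := hN
    have h1 := (stabilizer D.P x).pow_index_mem ⟨z, hz⟩
    rw [hidx] at h1
    exact h1

theorem comm {z w : G} (hz : z ∈ D.P) (hw : w ∈ D.P) : z * w = w * z := by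
  haveI := Fact.mk D.prime
  refine Subtype.ext (Perm.ext fun x => ?_)
  show (z : Perm α) ((w : Perm α) x) = (w : Perm α) ((z : Perm α) x)
  by_cases hx : x ∈ D.R
  · rw [D.fix w hw x hx, D.fix z hz x hx, D.fix w hw x hx]
  · obtain ⟨hN, hidx⟩ := D.stab_normal hx
    haveI := hN
    haveI : IsCyclic (D.P ⧸ stabilizer D.P x) :=
      isCyclic_of_prime_card (p := p) (by rw [← Subgroup.index_eq_card, hidx])
    letI := IsCyclic.commGroup (α := D.P ⧸ stabilizer D.P x)
    have h := mul_comm (QuotientGroup.mk' (stabilizer D.P x) ⟨w, hw⟩)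
      (QuotientGroup.mk' (stabilizer D.P x) ⟨z, hz⟩)
    rw [← map_mul, ← map_mul, QuotientGroup.mk'_apply, QuotientGroup.mk'_apply, QuotientGroup.eq,
      mem_stabilizer_iff, mul_smul, inv_smul_eq_iff] at h
    exact h

/-- Elements of `P` agreeing at a point agree on its orbit. -/
theorem agree {z w : G} (hz : z ∈ D.P) (hw : w ∈ D.P) {x y : α}
    (h : (z : Perm α) x = (w : Perm α) x) (hy : y ∈ D.orb x) : (z : Perm α) y = (w : Perm α) y := by
  obtain ⟨q, hq, rfl⟩ := D.mem_orb.1 hy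
  have h1 : (z : Perm α) * q = q * z := congrArg Subtype.val (D.comm hz hq)
  have h2 : (w : Perm α) * q = q * w := congrArg Subtype.val (D.comm hw hq)
  have e1 := congrArg (fun f : Perm α => f x) h1
  have e2 := congrArg (fun f : Perm α => f x) h2
  simp only [Perm.mul_apply] at e1 e2
  rw [e1, e2, h]

theorem zpow_agree {z w : G} (hz : z ∈ D.P) (hw : w ∈ D.P) {x : α}
    (h : (z : Perm α) x = (w : Perm α) x) (i : ℤ) :
    ((z ^ i : G) : Perm α) x = ((w ^ i : G) : Perm α) x := by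
  have hm : (⟨w⁻¹ * z, mul_mem (inv_mem hw) hz⟩ : D.P) ∈ stabilizer D.P x := by
    show ((w⁻¹ * z : G) : Perm α) x = x
    rw [Subgroup.coe_mul, Perm.mul_apply, h, Subgroup.coe_inv, perm_inv_apply]
  have h1 : (((w⁻¹ * z) ^ i : G) : Perm α) x = x := by
    have := Subgroup.zpow_mem _ hm i
    exact this
  rw [(show Commute w⁻¹ z from D.comm (inv_mem hw) hz).mul_zpow, inv_zpow, Subgroup.coe_mul,
    Perm.mul_apply, Subgroup.coe_inv, Perm.inv_eq_iff_eq] at h1
  exact h1

theorem exists_zpow {z w : G} (hz : z ∈ D.P) (hw : w ∈ D.P) {x : α} (hx : x ∉ D.R)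
    (hne : (z : Perm α) x ≠ x) : ∃ i : ℤ, (w : Perm α) x = ((z ^ i : G) : Perm α) x := by
  haveI := Fact.mk D.prime
  obtain ⟨hN, hidx⟩ := D.stab_normal hx
  haveI := hN
  have hcard : Nat.card (D.P ⧸ stabilizer D.P x) = p := by rw [← Subgroup.index_eq_card, hidx]
  obtain ⟨i, hi⟩ := Subgroup.mem_zpowers_iff.1 (mem_zpowers_of_prime_card hcard
    (g := QuotientGroup.mk' (stabilizer D.P x) ⟨z, hz⟩)
    (fun e => hne ((QuotientGroup.eq_one_iff _).1 e))
    (g' := QuotientGroup.mk' (stabilizer D.P x) ⟨w, hw⟩))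
  rw [← map_zpow, QuotientGroup.mk'_apply, QuotientGroup.mk'_apply, QuotientGroup.eq,
    mem_stabilizer_iff, mul_smul, inv_smul_eq_iff] at hi
  exact ⟨i, hi⟩

theorem supp_compl {z : G} (hz : z ∈ D.P) : (z : Perm α).support ⊆ D.Rᶜ := fun y hy =>
  Finset.mem_compl.2 fun h => Perm.mem_support.1 hy (D.fix z hz y h)

theorem eq_one_of_support (h4 : IsMultiplyPretransitive G α 4) (hA : ¬ alternatingGroup α ≤ G)
    (hr3 : 3 ≤ r) {z : G} (hz : z ∈ D.P) (hs : (z : Perm α).support.card ≤ p) : z = 1 := by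
  by_contra h1
  haveI := Fact.mk D.prime
  have hn : k * p + r = Fintype.card α := by
    have := Finset.card_compl_add_card D.R
    rwa [D.cardCompl, D.cardR] at this
  have hord : orderOf (z : Perm α) = p := by
    rw [Subgroup.orderOf_coe]
    exact orderOf_eq_prime (D.pow_p hz) h1
  have hkp : 0 < k * p := by
    rw [← D.cardCompl]
    refine Finset.card_pos.2 ?_
    by_contra hcon
    rw [Finset.not_nonempty_iff_eq_empty] at hcon
    refine h1 (Subtype.ext (Perm.ext fun x => D.fix z hz x ?_))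
    have : x ∉ D.Rᶜ := by rw [hcon]; exact Finset.notMem_empty x
    simpa using this
  have hk1 : 0 < k := Nat.pos_of_mul_pos_right hkp
  have := D.prime.two_le
  have : p ≤ k * p := Nat.le_mul_of_pos_left _ hk1
  exact hA (alt_of_prime_support h4 D.prime (by omega) (by omega) z.2 hord (by omega))

/-! ### The normalizer -/

theorem conj_mem {n z : G} (hn : n ∈ Subgroup.normalizer (D.P : Set G)) (hz : z ∈ D.P) :
    n * z * n⁻¹ ∈ D.P := (Subgroup.mem_normalizer_iff.1 hn z).1 hz

theorem apply_mem {n : G} (hn : n ∈ Subgroup.normalizer (D.P : Set G)) {x : α} (hx : x ∈ D.R) :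
    (n : Perm α) x ∈ D.R := by
  by_contra h
  obtain ⟨z, hz, hne⟩ := D.move _ h
  have hm := D.conj_mem (inv_mem hn) hz
  have h1 := D.fix _ hm x hx
  simp only [inv_inv, Subgroup.coe_mul, Subgroup.coe_inv, Perm.mul_apply, Perm.inv_eq_iff_eq] at h1
  exact hne h1

theorem apply_notMem {n : G} (hn : n ∈ Subgroup.normalizer (D.P : Set G)) {x : α} (hx : x ∉ D.R) :
    (n : Perm α) x ∉ D.R := fun h => hx (by
  simpa using D.apply_mem (inv_mem hn) h)

theorem image_orb {n : G} (hn : n ∈ Subgroup.normalizer (D.P : Set G)) (x : α) :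
    (D.orb x).image (n : Perm α) = D.orb ((n : Perm α) x) := by
  ext y
  rw [Finset.mem_image]
  constructor
  · rintro ⟨w, hw, rfl⟩
    obtain ⟨z, hz, rfl⟩ := D.mem_orb.1 hw
    exact D.mem_orb.2 ⟨n * z * n⁻¹, D.conj_mem hn hz, by simp⟩
  · intro hy
    obtain ⟨z, hz, rfl⟩ := D.mem_orb.1 hy
    exact ⟨_, D.mem_orb.2 ⟨n⁻¹ * z * n⁻¹⁻¹, D.conj_mem (inv_mem hn) hz, rfl⟩, by simp⟩

/-- The action on `R`. -/
def rho : Subgroup.normalizer (D.P : Set G) →* Perm {x // x ∈ D.R} where
  toFun n := (((n : G) : Perm α)).subtypePerm fun x => ⟨fun h => by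
    by_contra h'
    exact D.apply_notMem n.2 h' h, fun h => D.apply_mem n.2 h⟩
  map_one' := Perm.ext fun x => Subtype.ext rfl
  map_mul' a b := Perm.ext fun x => Subtype.ext rfl

theorem rho_apply (n : Subgroup.normalizer (D.P : Set G)) (x : {x // x ∈ D.R}) :
    ((D.rho n x : {x // x ∈ D.R}) : α) = ((n : G) : Perm α) x := rfl

theorem rho_surjective : Function.Surjective D.rho := fun σ => by
  obtain ⟨n, hn, h⟩ := D.lift σ
  exact ⟨⟨n, hn⟩, Perm.ext fun x => Subtype.ext (h x)⟩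

/-- The set of orbits. -/
noncomputable def orbits : Finset (Finset α) := D.Rᶜ.image D.orb

theorem card_orbits : D.orbits.card = k := by
  have h1 : ∀ o ∈ D.orbits, (D.Rᶜ.filter fun y => D.orb y = o).card = p := by
    intro o ho
    obtain ⟨x, hx, rfl⟩ := Finset.mem_image.1 ho
    rw [Finset.mem_compl] at hx
    rw [show (D.Rᶜ.filter fun y => D.orb y = D.orb x) = D.orb x from ?_, D.card_orb hx]
    ext y
    rw [Finset.mem_filter, Finset.mem_compl]
    refine ⟨fun ⟨_, e⟩ => e ▸ D.self_mem_orb y, fun hy => ⟨?_, D.orb_eq hy⟩⟩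
    obtain ⟨z, hz, rfl⟩ := D.mem_orb.1 hy
    exact D.notMem_apply hz hx
  have h2 := Finset.card_eq_sum_card_image D.orb D.Rᶜ
  rw [← orbits, Finset.sum_congr rfl h1, Finset.sum_const, smul_eq_mul, D.cardCompl] at h2
  exact (Nat.eq_of_mul_eq_mul_right D.prime.pos h2).symm

/-- The action on the orbits. -/
noncomputable def pi : Subgroup.normalizer (D.P : Set G) →* Perm {o // o ∈ D.orbits} :=
  MonoidHom.mk' (fun n =>
    { toFun := fun o => ⟨o.1.image ((n : G) : Perm α), by
        obtain ⟨x, hx, e⟩ := Finset.mem_image.1 o.2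
        rw [← e, D.image_orb n.2]
        exact Finset.mem_image_of_mem _ (Finset.mem_compl.2 (D.apply_notMem n.2 (Finset.mem_compl.1 hx)))⟩
      invFun := fun o => ⟨o.1.image ⇑((((n : G) : Perm α))⁻¹ : Perm α), by
        obtain ⟨x, hx, e⟩ := Finset.mem_image.1 o.2
        rw [← e]
        have h1 := D.image_orb (inv_mem n.2) x
        rw [Subgroup.coe_inv] at h1
        rw [h1]
        refine Finset.mem_image_of_mem _ (Finset.mem_compl.2 ?_)
        simpa using D.apply_notMem (inv_mem n.2) (Finset.mem_compl.1 hx)⟩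
      left_inv := fun o => Subtype.ext (by simp [Finset.image_image, Function.comp_def])
      right_inv := fun o => Subtype.ext (by simp [Finset.image_image, Function.comp_def]) })
    fun a b => Perm.ext fun o => Subtype.ext (by simp [Finset.image_image, Function.comp_def])

theorem apply_mem_orb {n : Subgroup.normalizer (D.P : Set G)} (hn : n ∈ D.pi.ker) {x : α}
    (hx : x ∉ D.R) : ((n : G) : Perm α) x ∈ D.orb x := by
  have h := congrArg (fun e : Perm {o // o ∈ D.orbits} =>
    (e ⟨D.orb x, Finset.mem_image_of_mem _ (Finset.mem_compl.2 hx)⟩ : Finset α))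
    (MonoidHom.mem_ker.1 hn)
  replace h : (D.orb x).image ((n : G) : Perm α) = D.orb x := h
  rw [← h]
  exact Finset.mem_image_of_mem _ (D.self_mem_orb x)

theorem fix_compl_rho (h4 : IsMultiplyPretransitive G α 4) (hA : ¬ alternatingGroup α ≤ G)
    (hr3 : 3 ≤ r) (h5 : 5 ≤ Fintype.card α) (n : Subgroup.normalizer (D.P : Set G))
    (hn : ∀ x, x ∉ D.R → ((n : G) : Perm α) x = x) : D.rho n = 1 := by
  by_contra h1
  obtain ⟨a, c, hac, hne⟩ := exists_swap_ne_one (by rw [Fintype.card_coe, D.cardR]; exact hr3) h1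
  obtain ⟨t, ht⟩ := D.rho_surjective (swap a c)
  set w := n * t * n⁻¹ * t⁻¹
  have hw : D.rho w = swap (D.rho n a) (D.rho n c) * swap a c := by
    simp only [w, map_mul, map_inv, ht, conj_swap_mul]
  have hinj := Subtype.coe_injective (p := fun x => x ∈ D.R)
  have hwα : ((w : G) : Perm α) =
      swap (D.rho n a : α) (D.rho n c) * swap (a : α) c := by
    ext y
    by_cases hy : y ∈ D.R
    · rw [← D.rho_apply w ⟨y, hy⟩, hw, Perm.mul_apply, Perm.mul_apply,
        show swap (a : α) c y = (swap a c ⟨y, hy⟩ : α) from hinj.swap_apply a c ⟨y, hy⟩,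
        hinj.swap_apply]
    · rw [Perm.mul_apply, swap_apply_of_ne_of_ne (a := (a : α)) (b := (c : α)) (x := y) (fun e => hy (by rw [e]; exact a.2))
        (fun e => hy (by rw [e]; exact c.2)),
        swap_apply_of_ne_of_ne (a := (D.rho n a : α)) (b := (D.rho n c : α)) (x := y)
          (fun e => hy (by rw [e]; exact (D.rho n a).2))
          (fun e => hy (by rw [e]; exact (D.rho n c).2))]
      have e1 : ((((t : G) : Perm α))⁻¹) y ∉ D.R := by
        simpa using D.apply_notMem (inv_mem t.2) hy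
      have e2 : ((((n : G) : Perm α))⁻¹) ((((t : G) : Perm α))⁻¹ y) = (((t : G) : Perm α))⁻¹ y := by
        rw [Perm.inv_eq_iff_eq, hn _ e1]
      simp only [w, Subgroup.coe_mul, Subgroup.coe_inv, Perm.mul_apply, e2, perm_apply_inv]
      exact hn y hy
  refine hA (alt_of_swap_swap h4 h5 (hinj.ne ((D.rho n).injective.ne hac)) (hinj.ne hac) ?_
    (hwα ▸ (w : G).2))
  intro e
  refine hne (Perm.ext fun y => Subtype.ext ?_)
  rw [← hw, D.rho_apply, hwα, e]
  rfl

theorem conj_agree {n : Subgroup.normalizer (D.P : Set G)} (hn : n ∈ D.pi.ker) {z w : G}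
    (hz : z ∈ D.P) (hw : w ∈ D.P) {x : α} (hx : x ∉ D.R)
    (h : (z : Perm α) x = (w : Perm α) x) :
    (((n : G) * z * (n : G)⁻¹ : G) : Perm α) x = (((n : G) * w * (n : G)⁻¹ : G) : Perm α) x := by
  have hy := D.apply_mem_orb (inv_mem hn) hx
  have := D.agree hz hw h hy
  simp only [Subgroup.coe_inv] at this
  simp only [Subgroup.coe_mul, Subgroup.coe_inv, Perm.mul_apply, this]

/-- An element fixing each orbit acts as a power map on each of them. -/
theorem exists_exp {n : Subgroup.normalizer (D.P : Set G)} (hn : n ∈ D.pi.ker) {x : α}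
    (hx : x ∉ D.R) : ∃ l : ℤ, ∀ z ∈ D.P,
      (((n : G) * z * (n : G)⁻¹ : G) : Perm α) x = ((z ^ l : G) : Perm α) x := by
  obtain ⟨z₀, hz₀, hne⟩ := D.move x hx
  obtain ⟨l, hl⟩ := D.exists_zpow hz₀ (D.conj_mem n.2 hz₀) hx hne
  refine ⟨l, fun z hz => ?_⟩
  obtain ⟨i, hi⟩ := D.exists_zpow hz₀ hz hx hne
  rw [D.conj_agree hn hz (zpow_mem hz₀ i) hx hi, ← conj_zpow]
  rw [D.zpow_agree (D.conj_mem n.2 hz₀) (zpow_mem hz₀ l) hl i,
    D.zpow_agree hz (zpow_mem hz₀ i) hi l, ← zpow_mul, ← zpow_mul, mul_comm]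

theorem agree_exp {n : Subgroup.normalizer (D.P : Set G)} (hn : n ∈ D.pi.ker) {x y : α}
    (hy : y ∈ D.orb x) {l : ℤ}
    (hl : ∀ z ∈ D.P, (((n : G) * z * (n : G)⁻¹ : G) : Perm α) x = ((z ^ l : G) : Perm α) x)
    {z : G} (hz : z ∈ D.P) :
    (((n : G) * z * (n : G)⁻¹ : G) : Perm α) y = ((z ^ l : G) : Perm α) y :=
  D.agree (D.conj_mem n.2 hz) (zpow_mem hz l) (hl z hz) hy

/-- With at most three orbits and no small supports, `n` acts on `P` as a power map. -/
theorem exists_scalar (h4 : IsMultiplyPretransitive G α 4) (hA : ¬ alternatingGroup α ≤ G)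
    (hr3 : 3 ≤ r) (hk1 : 1 ≤ k) (hk3 : k ≤ 3) {n : Subgroup.normalizer (D.P : Set G)}
    (hn : n ∈ D.pi.ker) : ∃ m : ℤ, ∀ z ∈ D.P, (n : G) * z * (n : G)⁻¹ = z ^ m := by
  classical
  have hp := D.prime
  have hkp : (k : ℕ) * p ≤ 3 * p := Nat.mul_le_mul_right _ hk3
  -- an element fixing two orbits pointwise is trivial
  have two : ∀ x₁ x₂, x₁ ∉ D.R → x₂ ∉ D.R → x₂ ∉ D.orb x₁ → ∀ y ∈ D.P,
      (∀ t ∈ D.orb x₁, (y : Perm α) t = t) → (∀ t ∈ D.orb x₂, (y : Perm α) t = t) → y = 1 := by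
    intro x₁ x₂ h1 h2 h12 y hy e1 e2
    refine D.eq_one_of_support h4 hA hr3 hy ?_
    have hsub : (y : Perm α).support ⊆ D.Rᶜ \ (D.orb x₁ ∪ D.orb x₂) := by
      intro t ht
      refine Finset.mem_sdiff.2 ⟨D.supp_compl hy ht, fun hu => ?_⟩
      rcases Finset.mem_union.1 hu with hu | hu
      exacts [Perm.mem_support.1 ht (e1 t hu), Perm.mem_support.1 ht (e2 t hu)]
    have hdisj : Disjoint (D.orb x₁) (D.orb x₂) := by
      rw [Finset.disjoint_left]
      intro t t1 t2
      exact h12 (D.orb_eq t1 ▸ (D.orb_eq t2).symm ▸ D.self_mem_orb x₂)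
    have hle : D.orb x₁ ∪ D.orb x₂ ⊆ D.Rᶜ := by
      intro t ht
      rcases Finset.mem_union.1 ht with ht | ht <;>
        (obtain ⟨q, hq, rfl⟩ := D.mem_orb.1 ht; apply Finset.mem_compl.2; apply D.notMem_apply hq)
      exacts [h1, h2]
    have hc := Finset.card_le_card hsub
    rw [Finset.card_sdiff_of_subset hle, Finset.card_union_of_disjoint hdisj, D.card_orb h1,
      D.card_orb h2, D.cardCompl] at hc
    omega
  -- a power map on two orbits is global
  have glob : ∀ x₁ x₂, x₁ ∉ D.R → x₂ ∉ D.R → x₂ ∉ D.orb x₁ → ∀ m : ℤ,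
      (∀ z ∈ D.P, (((n : G) * z * (n : G)⁻¹ : G) : Perm α) x₁ = ((z ^ m : G) : Perm α) x₁) →
      (∀ z ∈ D.P, (((n : G) * z * (n : G)⁻¹ : G) : Perm α) x₂ = ((z ^ m : G) : Perm α) x₂) →
      ∀ z ∈ D.P, (n : G) * z * (n : G)⁻¹ = z ^ m := by
    intro x₁ x₂ h1 h2 h12 m m1 m2 z hz
    have hfix : ∀ x, (∀ w ∈ D.P,
        (((n : G) * w * (n : G)⁻¹ : G) : Perm α) x = ((w ^ m : G) : Perm α) x) →
        ∀ t ∈ D.orb x, (((z ^ m)⁻¹ * ((n : G) * z * (n : G)⁻¹) : G) : Perm α) t = t := by
      intro x hm t ht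
      rw [Subgroup.coe_mul, Perm.mul_apply, D.agree_exp hn ht hm hz, Subgroup.coe_inv,
        perm_inv_apply]
    have := two x₁ x₂ h1 h2 h12 _ (mul_mem (inv_mem (zpow_mem hz m)) (D.conj_mem n.2 hz))
      (hfix x₁ m1) (hfix x₂ m2)
    exact (inv_mul_eq_one.1 this).symm
  -- exponents transfer along a common element
  have trans : ∀ x, x ∉ D.R → ∀ z ∈ D.P, (z : Perm α) x ≠ x → ∀ m : ℤ,
      (((n : G) * z * (n : G)⁻¹ : G) : Perm α) x = ((z ^ m : G) : Perm α) x →
      ∀ w ∈ D.P, (((n : G) * w * (n : G)⁻¹ : G) : Perm α) x = ((w ^ m : G) : Perm α) x := by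
    intro x hx z hz hne m hm w hw
    obtain ⟨l, hl⟩ := D.exists_exp hn hx
    obtain ⟨i, hi⟩ := D.exists_zpow hz hw hx hne
    have e : ((z ^ l : G) : Perm α) x = ((z ^ m : G) : Perm α) x := (hl z hz).symm.trans hm
    rw [hl w hw, D.zpow_agree hw (zpow_mem hz i) hi l, D.zpow_agree hw (zpow_mem hz i) hi m,
      ← zpow_mul, ← zpow_mul, mul_comm i l, mul_comm i m, zpow_mul, zpow_mul,
      D.zpow_agree (zpow_mem hz l) (zpow_mem hz m) e i]
  -- a nontrivial element moves two orbits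
  have second : ∀ x₁, x₁ ∉ D.R → ∀ z ∈ D.P, z ≠ 1 →
      ∃ x₂, x₂ ∉ D.R ∧ x₂ ∉ D.orb x₁ ∧ (z : Perm α) x₂ ≠ x₂ := by
    intro x₁ h1 z hz hz1
    by_contra hcon
    push Not at hcon
    refine hz1 (D.eq_one_of_support h4 hA hr3 hz ((Finset.card_le_card fun t ht => ?_).trans
      (D.card_orb h1).le))
    by_contra h
    exact Perm.mem_support.1 ht (hcon t (Finset.mem_compl.1 (D.supp_compl hz ht)) h)
  obtain ⟨x₁, hx₁⟩ : ∃ x, x ∈ D.Rᶜ := Finset.card_pos.1 (by
    rw [D.cardCompl]; exact Nat.mul_pos hk1 hp.pos)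
  rw [Finset.mem_compl] at hx₁
  obtain ⟨z₁, hz₁, hne₁⟩ := D.move x₁ hx₁
  obtain ⟨l₁, hl₁⟩ := D.exists_exp hn hx₁
  have hz1 : z₁ ≠ 1 := fun e => hne₁ (by rw [e]; rfl)
  set y := (z₁ ^ l₁)⁻¹ * ((n : G) * z₁ * (n : G)⁻¹)
  have hy : y ∈ D.P := mul_mem (inv_mem (zpow_mem hz₁ _)) (D.conj_mem n.2 hz₁)
  by_cases hy1 : y = 1
  · obtain ⟨x₂, hx₂, h12, hne₂⟩ := second x₁ hx₁ z₁ hz₁ hz1
    exact ⟨l₁, glob x₁ x₂ hx₁ hx₂ h12 l₁ hl₁ (trans x₂ hx₂ z₁ hz₁ hne₂ l₁ (by
      rw [(inv_mul_eq_one.1 hy1).symm]))⟩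
  obtain ⟨x₂, hx₂, h12, hne₂⟩ := second x₁ hx₁ y hy hy1
  obtain ⟨l₂, hl₂⟩ := D.exists_exp hn hx₂
  obtain ⟨x₃, hx₃, h23, hne₃⟩ := second x₂ hx₂ y hy hy1
  have hyfix : ∀ t ∈ D.orb x₁, (y : Perm α) t = t := fun t ht => by
    simp only [y]
    rw [Subgroup.coe_mul, Perm.mul_apply, D.agree_exp hn ht hl₁ hz₁, Subgroup.coe_inv,
      perm_inv_apply]
  set w := (y ^ l₂)⁻¹ * ((n : G) * y * (n : G)⁻¹)
  have hwP : w ∈ D.P := mul_mem (inv_mem (zpow_mem hy _)) (D.conj_mem n.2 hy)
  have hw1 : w = 1 := by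
    refine two x₁ x₂ hx₁ hx₂ h12 w hwP (fun t ht => ?_) (fun t ht => ?_)
    · have e1 : (((n : G) * y * (n : G)⁻¹ : G) : Perm α) t = t := by
        have hm : (((n : G)⁻¹ : G) : Perm α) t ∈ D.orb x₁ := by
          obtain ⟨q, hq, e⟩ := D.mem_orb.1 ht
          have ht' : t ∉ D.R := e ▸ D.notMem_apply hq hx₁
          have := D.apply_mem_orb (inv_mem hn) ht'
          rw [D.orb_eq ht] at this
          exact this
        have := hyfix _ hm
        simp only [Subgroup.coe_mul, Subgroup.coe_inv, Perm.mul_apply] at this ⊢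
        rw [this, perm_apply_inv]
      have e2 : ((y ^ l₂ : G) : Perm α) t = t := by
        have := D.zpow_agree hy (one_mem _) (x := t) (by rw [hyfix t ht]; rfl) l₂
        rw [this, one_zpow]; rfl
      simp only [w]
      rw [Subgroup.coe_mul, Perm.mul_apply, e1, Subgroup.coe_inv, Perm.inv_eq_iff_eq, e2]
    · simp only [w]
      rw [Subgroup.coe_mul, Perm.mul_apply, D.agree_exp hn ht hl₂ hy, Subgroup.coe_inv,
        perm_inv_apply]
  exact ⟨l₂, glob x₂ x₃ hx₂ hx₃ h23 l₂ hl₂ (trans x₃ hx₃ y hy hne₃ l₂ (by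
    rw [(inv_mul_eq_one.1 hw1).symm]))⟩

include D in
/-- The normalizer cannot both induce the symmetric group on `R` and permute `k < r` orbits. -/
theorem alt_le (hk : 1 ≤ k) (hkr : k < r) (hr3 : 3 ≤ r)
    (h4 : IsMultiplyPretransitive G α 4) : alternatingGroup α ≤ G := by
  classical
  by_contra hA
  have hp := D.prime
  have hn : k * p + r = Fintype.card α := by
    have := Finset.card_compl_add_card D.R
    rwa [D.cardCompl, D.cardR] at this
  have h5 : 5 ≤ Fintype.card α := by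
    have : 2 ≤ k * p := le_trans hp.two_le (Nat.le_mul_of_pos_left _ hk)
    omega
  -- `k ≥ 2`
  have hk2 : 2 ≤ k := by
    by_contra hlt
    obtain rfl : k = 1 := by omega
    obtain ⟨x, hx⟩ : ∃ x, x ∈ D.Rᶜ := Finset.card_pos.1 (by rw [D.cardCompl, one_mul]; exact hp.pos)
    obtain ⟨z, hz, hne⟩ := D.move x (Finset.mem_compl.1 hx)
    refine hne ?_
    rw [D.eq_one_of_support h4 hA hr3 hz
      ((Finset.card_le_card (D.supp_compl hz)).trans (by rw [D.cardCompl, one_mul]))]
    rfl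
  have hodd : Odd p := hp.odd_of_ne_two (by have := D.small; omega)
  set N := Subgroup.normalizer (D.P : Set G)
  set ρ := D.rho
  set K := D.pi.ker
  have hcard : Fintype.card {x // x ∈ D.R} = r := by rw [Fintype.card_coe, D.cardR]
  -- the centralizing part
  let C : Subgroup N := K ⊓ (Subgroup.centralizer (D.P : Set G)).comap N.subtype
  haveI : C.Normal := ⟨fun c hc g => ⟨(inferInstance : K.Normal).conj_mem c hc.1 g, fun z hz => by
    have h1 := hc.2 _ (D.conj_mem (inv_mem g.2) hz)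
    simp only [inv_inv, Subgroup.coe_subtype, Subgroup.coe_mul, Subgroup.coe_inv] at h1 ⊢
    calc z * ((g : G) * c * (g : G)⁻¹) = (g : G) * ((g : G)⁻¹ * z * g * c) * (g : G)⁻¹ := by group
      _ = (g : G) * ((c : G) * ((g : G)⁻¹ * z * g)) * (g : G)⁻¹ := by rw [h1]
      _ = (g : G) * c * (g : G)⁻¹ * z := by group⟩⟩
  -- centralizing elements agree with elements of `P` on each orbit
  have hCz : ∀ c ∈ C, ∀ x, x ∉ D.R → ∃ z ∈ D.P,
      ∀ t ∈ D.orb x, ((c : G) : Perm α) t = (z : Perm α) t := by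
    intro c hc x hx
    obtain ⟨z, hz, e⟩ := D.mem_orb.1 (D.apply_mem_orb hc.1 hx)
    refine ⟨z, hz, fun t ht => ?_⟩
    obtain ⟨q, hq, rfl⟩ := D.mem_orb.1 ht
    have h1 := congrArg (fun f : G => (f : Perm α) x) (hc.2 q hq)
    have h2 := congrArg (fun f : G => (f : Perm α) x) (D.comm hq hz)
    simp only [Subgroup.coe_subtype, Subgroup.coe_mul, Perm.mul_apply] at h1 h2
    rw [← h1, ← e, h2]
  have hCρ : ∀ c ∈ C, ρ c ^ p = 1 := by
    intro c hc
    rw [← map_pow]
    refine D.fix_compl_rho h4 hA hr3 h5 _ fun x hx => ?_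
    obtain ⟨z, hz, hag⟩ := hCz c hc x hx
    have hj : ∀ j : ℕ, (((c ^ j : N) : G) : Perm α) x = ((z ^ j : G) : Perm α) x := by
      intro j
      induction j with
      | zero => rfl
      | succ j ih =>
        rw [pow_succ', pow_succ']
        simp only [Subgroup.coe_mul, Perm.mul_apply]
        rw [ih, hag _ (D.mem_orb.2 ⟨z ^ j, pow_mem hz j, rfl⟩)]
    rw [hj p, D.pow_p hz]
    rfl
  have hCcomm : ∀ a ∈ C, ∀ b ∈ C, ρ a * ρ b = ρ b * ρ a := by
    intro a ha b hb
    rw [← mul_inv_eq_one, ← map_mul, ← map_mul, ← map_inv, ← map_mul]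
    refine D.fix_compl_rho h4 hA hr3 h5 _ fun x hx => ?_
    set y := ((((b * a : N)⁻¹ : N) : G) : Perm α) x with hy
    have hy' : y ∉ D.R := D.apply_notMem ((b * a : N)⁻¹).2 hx
    obtain ⟨z, hz, hza⟩ := hCz a ha y hy'
    obtain ⟨w, hw, hwb⟩ := hCz b hb y hy'
    have e1 : ((a : G) : Perm α) (((b : G) : Perm α) y) = ((b : G) : Perm α) (((a : G) : Perm α) y) := by
      rw [hwb y (D.self_mem_orb y), hza _ (D.mem_orb.2 ⟨w, hw, rfl⟩), hza y (D.self_mem_orb y),
        hwb _ (D.mem_orb.2 ⟨z, hz, rfl⟩)]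
      exact congrArg (fun f : G => (f : Perm α) y) (D.comm hz hw)
    simp only [Subgroup.coe_mul, Perm.mul_apply]
    rw [← hy, e1, hy]
    simp
  have hCtriv : ∀ c ∈ C, ρ c = 1 := by
    intro c hc
    by_contra hne
    rcases (show r = 3 ∨ 4 ≤ r by omega) with rfl | hr4
    · haveI := Fact.mk hp
      have hord := orderOf_eq_prime (hCρ c hc) hne
      have hd := hord ▸ orderOf_dvd_natCard (ρ c)
      rw [Nat.card_eq_fintype_card, Fintype.card_perm, hcard,
        show Nat.factorial 3 = 2 * 3 by rfl] at hd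
      have hp3 : p = 3 := by
        rcases hp.dvd_mul.1 hd with h | h
        · have := (Nat.prime_dvd_prime_iff_eq hp Nat.prime_two).1 h
          have := D.small
          omega
        · exact (Nat.prime_dvd_prime_iff_eq hp Nat.prime_three).1 h
      have := D.small
      obtain rfl : k = 2 := by omega
      exact hA (alt_of_nine h4 (by omega))
    · refine hne ?_
      have hmem : ρ c ∈ C.map ρ := Subgroup.mem_map_of_mem ρ hc
      rwa [abelian_normal_eq_bot (Subgroup.Normal.map inferInstance ρ D.rho_surjective) ?_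
        (by omega) (Or.inr ⟨p, hodd, ?_⟩), Subgroup.mem_bot] at hmem
      · rintro _ ⟨a, ha, rfl⟩ _ ⟨b, hb, rfl⟩
        exact hCcomm a ha b hb
      · rintro _ ⟨a, ha, rfl⟩
        exact hCρ a ha
  -- commutators in the kernel centralize
  have hKcomm : ∀ a ∈ K, ∀ b ∈ K, ρ a * ρ b = ρ b * ρ a := by
    intro a ha b hb
    rw [← mul_inv_eq_one, ← map_mul, ← map_mul, ← map_inv, ← map_mul]
    refine hCtriv _ ⟨K.mul_mem (K.mul_mem ha hb) (K.inv_mem (K.mul_mem hb ha)), fun z hz => ?_⟩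
    -- conjugation by `a b` and by `b a` agree
    have key : ∀ z ∈ D.P, (a : G) * ((b : G) * z * (b : G)⁻¹) * (a : G)⁻¹ =
        (b : G) * ((a : G) * z * (a : G)⁻¹) * (b : G)⁻¹ := by
      intro z hz
      refine Subtype.ext (Perm.ext fun x => ?_)
      by_cases hx : x ∈ D.R
      · rw [D.fix _ (D.conj_mem a.2 (D.conj_mem b.2 hz)) x hx,
          D.fix _ (D.conj_mem b.2 (D.conj_mem a.2 hz)) x hx]
      obtain ⟨la, hla⟩ := D.exists_exp ha hx
      obtain ⟨lb, hlb⟩ := D.exists_exp hb hx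
      rw [hla _ (D.conj_mem b.2 hz), hlb _ (D.conj_mem a.2 hz),
        D.zpow_agree (D.conj_mem b.2 hz) (zpow_mem hz lb) (hlb z hz) la,
        D.zpow_agree (D.conj_mem a.2 hz) (zpow_mem hz la) (hla z hz) lb, ← zpow_mul, ← zpow_mul,
        mul_comm]
    have hw := D.conj_mem (inv_mem (b * a).2) hz
    have h1 := key _ hw
    simp only [Subgroup.coe_subtype, Subgroup.coe_mul, Subgroup.coe_inv] at h1 ⊢
    have e1 : z = (a : G) * b * (((b : G) * a)⁻¹ * z * ((b : G) * a)) * ((a : G) * b)⁻¹ := by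
      calc z = (b : G) * ((a : G) * (((b : G) * a)⁻¹ * z * ((b : G) * a)⁻¹⁻¹) * (a : G)⁻¹) *
            (b : G)⁻¹ := by group
        _ = _ := by rw [← h1]; group
    conv_lhs => rw [e1]
    group
  have hKtriv : ∀ a ∈ K, ρ a = 1 := by
    intro a ha
    rcases (show 5 ≤ r ∨ r ≤ 4 by omega) with hr5 | hr4
    · have hmem : ρ a ∈ K.map ρ := Subgroup.mem_map_of_mem ρ ha
      rwa [abelian_normal_eq_bot (Subgroup.Normal.map inferInstance ρ D.rho_surjective) ?_
        (by omega) (Or.inl (by omega)), Subgroup.mem_bot] at hmem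
      rintro _ ⟨c, hc, rfl⟩ _ ⟨b, hb, rfl⟩
      exact hKcomm c hc b hb
    · obtain ⟨m, hm⟩ := D.exists_scalar h4 hA hr3 hk (by omega) ha
      refine eq_one_of_commute_swap (by omega) fun x y => ?_
      obtain ⟨t, ht⟩ := D.rho_surjective (swap x y)
      rw [← ht, eq_comm, ← mul_inv_eq_one, ← map_mul, ← map_mul, ← map_inv, ← map_mul]
      refine hCtriv _ ⟨?_, fun z hz => ?_⟩
      · rw [mul_inv_rev, ← mul_assoc]
        exact K.mul_mem ((inferInstance : K.Normal).conj_mem a ha t) (K.inv_mem ha)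
      · -- `t a t⁻¹` and `a` are the same power map
        have key : ∀ w ∈ D.P, (t : G) * a * (t : G)⁻¹ * w * ((t : G) * a * (t : G)⁻¹)⁻¹ = w ^ m := by
          intro w hw
          have h1 := hm _ (D.conj_mem (inv_mem t.2) hw)
          simp only [inv_inv, Subgroup.coe_inv] at h1
          calc _ = (t : G) * ((a : G) * ((t : G)⁻¹ * w * t) * (a : G)⁻¹) * (t : G)⁻¹ := by group
            _ = w ^ m := by rw [h1, ← conj_zpow]; group
        have hw := D.conj_mem (inv_mem a.2) hz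
        have h2 := (key _ hw).trans (hm _ hw).symm
        simp only [Subgroup.coe_subtype, Subgroup.coe_mul, Subgroup.coe_inv] at h2 ⊢
        have e1 : z = (t : G) * a * (t : G)⁻¹ * (a : G)⁻¹ * z * ((t : G) * a * (t : G)⁻¹ * (a : G)⁻¹)⁻¹ := by
          calc z = (a : G) * ((a : G)⁻¹ * z * (a : G)⁻¹⁻¹) * (a : G)⁻¹ := by group
            _ = _ := by rw [← h2]; group
        conv_lhs => rw [e1]
        group
  -- counting
  have hle : K ≤ ρ.ker := fun a ha => MonoidHom.mem_ker.2 (hKtriv a ha)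
  have h1 : ρ.ker.index ≤ K.index :=
    Nat.le_of_dvd (Nat.pos_of_ne_zero Subgroup.FiniteIndex.index_ne_zero) (Subgroup.index_dvd_of_le hle)
  rw [Subgroup.index_ker, Subgroup.index_ker] at h1
  have h2 : Nat.card ρ.range = r.factorial := by
    rw [MonoidHom.range_eq_top.2 D.rho_surjective, Subgroup.card_top, Nat.card_eq_fintype_card,
      Fintype.card_perm, hcard]
  have h3 : Nat.card D.pi.range ≤ k.factorial := by
    refine (Subgroup.card_le_card_group _).trans (le_of_eq ?_)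
    rw [Nat.card_eq_fintype_card, Fintype.card_perm, Fintype.card_coe, D.card_orbits]
  have := (Nat.factorial_lt (by omega : 0 < k)).2 hkr
  omega

end Data

/-- `n = k p + r` with `k < p`, `k < r`: no `(r + 1)`-transitive groups but `Alt` and `Sym`. -/
theorem alternatingGroup_le {k p r : ℕ} (hp : p.Prime) (hn : Fintype.card α = k * p + r) (hk : 1 ≤ k)
    (hpk : k < p) (hrk : k < r) (hex : ¬ (k = 1 ∧ r = 2))
    (hG : IsMultiplyPretransitive G α (r + 1)) : alternatingGroup α ≤ G := by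
  obtain ⟨D⟩ := exists_data hp hn hk hpk hG
  have hr3 : 3 ≤ r := by omega
  have hkp : 1 ≤ k * p := Nat.mul_pos hk hp.pos
  haveI := hG
  exact D.alt_le hk hrk hr3
    (isMultiplyPretransitive_of_le (n := r + 1) (by omega) (by rw [Nat.card_eq_fintype_card]; omega))

end CfsgLib.TransBound
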